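import Mathlib

/-!
# Function fields with one-dimensional differentials and their purely inseparable subfields
-/

set_option autoImplicit false

universe u

namespace Groth.Agent.H29Frob.Twist

open IntermediateField

/-- An algebraic field extension which is essentially of finite type is finite. -/
theorem finite_of_essFiniteType {F E : Type u} [Field F] [Field E] [Algebra F E] [Algebra.EssFiniteType F E]
    [Algebra.IsAlgebraic F E] : FiniteDimensional F E := by
  obtain ⟨s, hs⟩ := (IntermediateField.fg_top_iff (F := F) (E := E)).mpr inferInstance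
  haveI : FiniteDimensional F (adjoin F (s : Set E)) :=
    finiteDimensional_adjoin fun x _ => Algebra.IsIntegral.isIntegral x
  rw [hs] at this
  exact Module.Finite.equiv (topEquiv (F := F) (E := E)).toLinearEquiv

/-- If the differentials are one-dimensional, the only subfield of index `p ^ n` containing all `p ^ n`-th
powers is generated by these powers. -/
theorem le_of_pow_mem {k K : Type u} [Field k] [Field K] [Algebra k K] [Algebra.EssFiniteType k K] (p : ℕ)
    [Fact p.Prime] [CharP K p] (n : ℕ) (hΩ : Module.finrank K Ω[K⁄k] = 1) (E F : IntermediateField k K)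
    (hFE : F ≤ E) (hE : Module.finrank E K = p ^ n) (hF : ∀ x : K, x ^ p ^ n ∈ F) : E ≤ F := by
  classical
  obtain ⟨t, ht⟩ : ∃ t : K, KaehlerDifferential.D k K t ≠ 0 := by
    by_contra! hall
    haveI : Subsingleton Ω[K⁄k] := by
      refine subsingleton_of_forall_eq 0 fun v => ?_
      have hv : v ∈ Submodule.span K (Set.range (KaehlerDifferential.D k K)) :=
        (KaehlerDifferential.span_range_derivation k K).symm ▸ Submodule.mem_top
      have hle : Submodule.span K (Set.range (KaehlerDifferential.D k K)) ≤ ⊥ :=
        Submodule.span_le.2 (by rintro _ ⟨z, rfl⟩; exact hall z)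
      exact (Submodule.mem_bot K).1 (hle hv)
    rw [Module.finrank_zero_of_subsingleton] at hΩ
    exact one_ne_zero hΩ.symm
  haveI : Algebra.EssFiniteType F K := Algebra.EssFiniteType.of_comp k F K
  haveI : CharP F p := (algebraMap F K).charP (algebraMap F K).injective p
  haveI : ExpChar F p := ExpChar.prime Fact.out
  haveI : Algebra.IsAlgebraic F K := ⟨fun x => IsIntegral.isAlgebraic
    (IsIntegral.of_pow (pow_pos (Fact.out : p.Prime).pos n) (isIntegral_algebraMap (x := (⟨_, hF x⟩ : F))))⟩
  haveI : FiniteDimensional F K := finite_of_essFiniteType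
  haveI : IsPurelyInseparable F K := (isPurelyInseparable_iff_pow_mem F p).2 fun x => ⟨n, ⟨_, hF x⟩, rfl⟩
  let L : IntermediateField F K := adjoin F {t}
  have hLtop : L = ⊤ := by
    haveI : IsPurelyInseparable L K := IsPurelyInseparable.tower_top F L K
    haveI : Algebra.EssFiniteType L K := Algebra.EssFiniteType.of_comp F L K
    haveI : IsScalarTower k L K := IsScalarTower.of_algebraMap_eq fun r => rfl
    have hD : ∀ z : K, KaehlerDifferential.D L K z = 0 := fun z => by
      obtain ⟨c, hc⟩ := (finrank_eq_one_iff_of_nonzero' _ ht).1 hΩ (KaehlerDifferential.D k K z)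
      have h1 := congrArg (KaehlerDifferential.map k L K K) hc
      rw [map_smul, KaehlerDifferential.map_D, KaehlerDifferential.map_D] at h1
      refine h1.symm.trans ?_
      rw [show algebraMap K K t = algebraMap L K ⟨t, mem_adjoin_simple_self F t⟩ from rfl, Derivation.map_algebraMap,
        smul_zero]
    haveI : Subsingleton Ω[K⁄L] := by
      refine subsingleton_of_forall_eq 0 fun v => ?_
      have hv : v ∈ Submodule.span K (Set.range (KaehlerDifferential.D L K)) :=
        (KaehlerDifferential.span_range_derivation L K).symm ▸ Submodule.mem_top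
      have hle : Submodule.span K (Set.range (KaehlerDifferential.D L K)) ≤ ⊥ :=
        Submodule.span_le.2 (by rintro _ ⟨z, rfl⟩; exact hD z)
      exact (Submodule.mem_bot K).1 (hle hv)
    haveI : Algebra.FormallyUnramified L K := ⟨inferInstance⟩
    haveI : Algebra.IsSeparable L K := Algebra.FormallyUnramified.isSeparable L K
    refine eq_top_iff.2 fun x _ => ?_
    obtain ⟨y, rfl⟩ := IsPurelyInseparable.surjective_algebraMap_of_isSeparable L K x
    exact y.2
  have hdeg : Module.finrank F K ≤ p ^ n := by
    calc Module.finrank F K = Module.finrank F L := by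
          rw [hLtop]; exact (topEquiv (F := F) (E := K)).toLinearEquiv.finrank_eq.symm
      _ = (minpoly F t).natDegree := adjoin.finrank (Algebra.IsIntegral.isIntegral t)
      _ ≤ (Polynomial.X ^ (p ^ n) - Polynomial.C (⟨_, hF t⟩ : F)).natDegree := by
          refine Polynomial.natDegree_le_of_dvd (minpoly.dvd F t ?_) ?_
          · simp [sub_eq_zero]
          · exact Polynomial.X_pow_sub_C_ne_zero (pow_pos (Fact.out : p.Prime).pos n) _
      _ = p ^ n := Polynomial.natDegree_X_pow_sub_C
  letI : Algebra F E := (IntermediateField.inclusion hFE).toRingHom.toAlgebra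
  haveI : IsScalarTower F E K := IsScalarTower.of_algebraMap_eq fun x => rfl
  haveI : FiniteDimensional F E := FiniteDimensional.left F E K
  have h1 : Module.finrank F E = 1 := by
    have hmul := Module.finrank_mul_finrank F E K
    rw [hE] at hmul
    have hpos : 0 < Module.finrank F E := Module.finrank_pos
    nlinarith [pow_pos (Fact.out : p.Prime).pos n]
  intro x hx
  obtain ⟨c, hc⟩ := (finrank_eq_one_iff_of_nonzero' (1 : E) one_ne_zero).1 h1 ⟨x, hx⟩
  have h2 := congrArg (fun z : E => (z : K)) hc
  rw [Algebra.smul_def, mul_one] at h2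
  exact (show (c : K) = x from h2) ▸ c.2

end Groth.Agent.H29Frob.Twist
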