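import Groth.Agent.H29Frob.Twist.Alg
import Groth.Agent.H27FrobRoot.Root
import Groth.Agent.H7Lim.GeomConnFinite
import Groth.Agent.H28Neron.NormalSmooth
import Groth.Agent.H29DoubleCover.Separable
import Groth.Agent.H29Curve.SmoothStalk
import Groth.Agent.H27CurveDiv.RelDim
import Groth.Prelude.Def_CurvBase

/-!
# A curve below a purely inseparable map from a smooth curve is a Frobenius twist
-/

set_option autoImplicit false
set_option linter.style.haveILetI false
set_option maxHeartbeats 800000

universe u

open CategoryTheory CategoryTheory.Limits AlgebraicGeometry TopologicalSpace FrobSch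
open Groth.Agent.H19Grp.FrobPow Groth.Agent.H27FrobRoot

namespace Groth.Agent.H29Frob.Twist

variable {p : ℕ} [Fact p.Prime]

/-- A prime exponential characteristic is the characteristic. -/
theorem charP_of_expChar (k : Type u) [Field k] [h : ExpChar k p] : CharP k p := by
  cases h with
  | zero => exact absurd (Fact.out : Nat.Prime 1) Nat.not_prime_one
  | prime hq => assumption

/-- Powers of the Frobenius of a field. -/
theorem frobN_Spec (k : Type u) [Field k] [ExpChar k p] [CharP k p] (n : ℕ) :
    frobN p n (Spec (CommRingCat.of k)) = Spec.map (CommRingCat.ofHom (iterateFrobenius k p n)) := by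
  apply ext_of_isAffine
  rw [← cancel_mono (Scheme.ΓSpecIso (CommRingCat.of k)).hom, Scheme.ΓSpecIso_naturality]
  ext s
  show (Scheme.ΓSpecIso (CommRingCat.of k)).hom ((frobN p n _).app ⊤ s) = iterateFrobenius k p n _
  rw [frobN_app, map_pow, iterateFrobenius_def]
  rfl

/-- The map of spectra of an iterated Frobenius of a field is universally injective. -/
theorem universallyInjective_frobN_Spec (k : Type u) [Field k] [ExpChar k p] (n : ℕ) :
    UniversallyInjective (Spec.map (CommRingCat.ofHom (iterateFrobenius k p n))) := by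
  letI a : Algebra k k := (iterateFrobenius k p n).toAlgebra
  haveI : @IsPurelyInseparable k k _ _ a := by
    rw [isPurelyInseparable_iff_pow_mem k p]
    exact fun x => ⟨n, ⟨x, (iterateFrobenius_def p n x)⟩⟩
  exact H7Lim.GeomConnFinite.universallyInjective_SpecMap k k

/-- Function field maps of composites. -/
theorem ffMap_comp {X Y Z : Scheme.{u}} [IsIntegral X] [IsIntegral Y] [IsIntegral Z] (a : X ⟶ Y) (b : Y ⟶ Z)
    (ea : a (genericPoint X) = genericPoint Y) (eb : b (genericPoint Y) = genericPoint Z)
    (eab : (a ≫ b) (genericPoint X) = genericPoint Z) (z : Z.functionField) :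
    ffMap a ea (ffMap b eb z) = ffMap (a ≫ b) eab z := by
  obtain ⟨V, hV, s, rfl⟩ := Z.presheaf.exists_germ_eq (x := genericPoint Z) z
  rw [ffMap_germ, ffMap_germ, ffMap_germ]
  rfl

/-- Function field maps only depend on the morphism. -/
theorem ffMap_congr {X Y : Scheme.{u}} [IsIntegral X] [IsIntegral Y] {a b : X ⟶ Y} (h : a = b)
    (ea : a (genericPoint X) = genericPoint Y) (eb : b (genericPoint X) = genericPoint Y) :
    ffMap a ea = ffMap b eb := by
  subst h; rfl

attribute [local instance] Curv2.stalkAlgebra

/-- Below a purely inseparable finite map from a smooth curve lies a Frobenius twist of the curve. -/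
theorem exists_iso_twist {k : Type u} [Field k] [ExpChar k p] {X Y : Scheme.{u}}
    [X.Over (Spec (CommRingCat.of k))] (q : Y ⟶ Spec (CommRingCat.of k)) [IsSeparated q]
    [IsSeparated (X ↘ Spec (CommRingCat.of k))]
    [IsIntegral X] [IsIntegral Y] (hdX : topologicalKrullDim X = 1)
    (hnY : ∀ y : Y, IsIntegrallyClosed (Y.presheaf.stalk y)) [Smooth (X ↘ Spec (CommRingCat.of k))]
    (f : X ⟶ Y) [IsFinite f] (hf : f ≫ q = X ↘ Spec (CommRingCat.of k))
    (e : f (genericPoint X) = genericPoint Y)
    (hpi : letI := (ffMap f e).toAlgebra; IsPurelyInseparable Y.functionField X.functionField) :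
    ∃ (r : ℕ) (i : Y ≅ pullback (X ↘ Spec (CommRingCat.of k)) (Spec.map (CommRingCat.ofHom (iterateFrobenius k p r)))),
      i.hom ≫ pullback.snd (X ↘ Spec (CommRingCat.of k)) (Spec.map (CommRingCat.ofHom (iterateFrobenius k p r))) = q := by
  haveI hchar : CharP k p := charP_of_expChar k
  let π := X ↘ Spec (CommRingCat.of k)
  haveI : IsCharP X p := IsCharP.of_hom π p
  haveI : IsCharP Y p := IsCharP.of_hom q p
  haveI : X.IsSeparated := (Scheme.isSeparated_iff _).2
    (by rw [← terminal.comp_from π]; infer_instance)
  haveI : Y.IsSeparated := (Scheme.isSeparated_iff _).2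
    (by rw [← terminal.comp_from q]; infer_instance)
  -- the smooth curve at its generic point
  haveI : SmoothOfRelativeDimension 1 π :=
    H27CurveDiv.smoothOfRelativeDimension_of_dim π 1 (by exact_mod_cast hdX)
  obtain ⟨-, hess, -, hΩ⟩ := H29Curve.stalk_of_smooth k X (genericPoint X) 1 ⊤ trivial
    (inferInstanceAs (SmoothOfRelativeDimension (0 + 1) ((⊤ : X.Opens).ι ≫ π)))
  haveI : Algebra.EssFiniteType k X.functionField := hess
  haveI : CharP X.functionField p := (CharP.charP_iff_prime_eq_zero Fact.out).2 (natCast_eq_zero_functionField (p := p) X)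
  -- the degree
  let E : IntermediateField k X.functionField := (ffMap f e).fieldRange.toIntermediateField fun c => by
    refine ⟨Y.presheaf.germ ⊤ (genericPoint Y) trivial (Coh.toGlobal q c), ?_⟩
    rw [ffMap_germ]
    show X.presheaf.germ ⊤ (genericPoint X) trivial (f.app ⊤ (Coh.toGlobal q c)) =
      X.presheaf.germ ⊤ (genericPoint X) trivial (Coh.toGlobal π c)
    refine congrArg _ ?_
    show f.app ⊤ (q.appTop _) = π.appTop _
    rw [show π = f ≫ q from hf.symm, Scheme.Hom.comp_appTop]
    rfl
  letI := (ffMap f e).toAlgebra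
  haveI : IsPurelyInseparable Y.functionField X.functionField := hpi
  haveI : CharP Y.functionField p := (CharP.charP_iff_prime_eq_zero Fact.out).2 (natCast_eq_zero_functionField (p := p) Y)
  haveI : ExpChar Y.functionField p := ExpChar.prime Fact.out
  letI : Algebra k Y.functionField :=
    ((Y.presheaf.germ ⊤ (genericPoint Y) trivial).hom.comp (Coh.toGlobal q)).toAlgebra
  haveI : IsScalarTower k Y.functionField X.functionField := IsScalarTower.of_algebraMap_eq fun c => by
    show X.presheaf.germ ⊤ (genericPoint X) trivial (Coh.toGlobal π c) =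
      ffMap f e (Y.presheaf.germ ⊤ (genericPoint Y) trivial (Coh.toGlobal q c))
    rw [ffMap_germ]
    show _ = X.presheaf.germ ⊤ (genericPoint X) trivial (f.app ⊤ (q.appTop _))
    refine congrArg _ ?_
    show π.appTop _ = _
    rw [show π = f ≫ q from hf.symm, Scheme.Hom.comp_appTop]
    rfl
  haveI : Algebra.EssFiniteType Y.functionField X.functionField :=
    Algebra.EssFiniteType.of_comp k Y.functionField X.functionField
  haveI : FiniteDimensional Y.functionField X.functionField := finite_of_essFiniteType
  obtain ⟨n, hn⟩ := IsPurelyInseparable.finrank_eq_pow Y.functionField X.functionField p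
  have hpow : ∀ z : X.functionField, ∃ y : Y.functionField, ffMap f e y = z ^ p ^ n := fun z => by
    have hle : (minpoly Y.functionField z).natDegree ≤ p ^ n := hn ▸ minpoly.natDegree_le z
    rw [IsPurelyInseparable.minpoly_natDegree_eq' Y.functionField p] at hle
    obtain ⟨d, hd⟩ := Nat.exists_eq_add_of_le ((Nat.pow_le_pow_iff_right (Fact.out : p.Prime).one_lt).mp hle)
    refine ⟨IsPurelyInseparable.elemReduct Y.functionField z ^ p ^ d, ?_⟩
    rw [map_pow, hd, pow_add, pow_mul]
    congr 1
    exact IsPurelyInseparable.algebraMap_elemReduct_eq' Y.functionField p z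
  have hE : Module.finrank E X.functionField = p ^ n := by
    rw [← hn]
    let eE : Y.functionField ≃+* E := RingEquiv.ofBijective ((ffMap f e).codRestrict E fun y => ⟨y, rfl⟩)
      ⟨fun a b h => (ffMap f e).injective (congrArg Subtype.val h), fun z => by
        obtain ⟨y, hy⟩ := z.2
        exact ⟨y, Subtype.ext hy⟩⟩
    exact (Algebra.finrank_eq_of_equiv_equiv eE (RingEquiv.refl X.functionField) (RingHom.ext fun y => rfl)).symm
  -- the map to the twist
  haveI : Surjective f := ⟨fun y => by
    have hcl := f.isClosedMap.isClosed_range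
    have hy : y ∈ closure ({genericPoint Y} : Set Y) := (genericPoint_specializes y).mem_closure
    exact (closure_minimal (Set.singleton_subset_iff.2 (show genericPoint Y ∈ Set.range f from ⟨genericPoint X, e⟩)) hcl) hy⟩
  obtain ⟨g, hfg, hgf⟩ := exists_frobN_root (p := p) f e hnY hpow
  let φ := Spec.map (CommRingCat.ofHom (iterateFrobenius k p n))
  haveI : UniversallyInjective φ := universallyInjective_frobN_Spec k n
  haveI : IsDominant f := inferInstance
  have hgq : g ≫ π = q ≫ φ := by
    refine ext_of_isDominant f ?_
    rw [reassoc_of% hfg, frobN_comp p n π, ← reassoc_of% hf, frobN_Spec k n]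
  let X' := pullback π φ
  let π' : X' ⟶ Spec (CommRingCat.of k) := pullback.snd π φ
  let j : Y ⟶ X' := pullback.lift g q hgq
  haveI : Surjective g := by
    refine ⟨fun x => ⟨f x, ?_⟩⟩
    rw [← Scheme.Hom.comp_apply, hfg]
    rfl
  haveI : UniversallyInjective (pullback.fst π φ) := MorphismProperty.pullback_fst _ _ inferInstance
  have hfst : Function.Injective (pullback.fst π φ) := (pullback.fst π φ).injective
  have hjsurj : Function.Surjective j := fun z => by
    obtain ⟨y, hy⟩ := g.surjective (pullback.fst π φ z)
    refine ⟨y, hfst ?_⟩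
    rw [← Scheme.Hom.comp_apply, pullback.lift_fst, hy]
  haveI : IrreducibleSpace X' := by
    have h := (IrreducibleSpace.isIrreducible_univ Y).image j j.continuous.continuousOn
    rw [Set.image_univ, hjsurj.range_eq] at h
    exact (irreducibleSpace_def _).2 h
  haveI : Smooth π' := MorphismProperty.pullback_snd _ _ inferInstance
  have hnX' := H28Neron.isNormalScheme_of_smooth π' (H29DoubleCover.isNormalScheme_spec_field k)
  haveI : IsReduced X' := by
    haveI : ∀ x : X', _root_.IsReduced (X'.presheaf.stalk x) := fun x => by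
      haveI := (hnX' x).1
      infer_instance
    exact isReduced_of_isReduced_stalk X'
  haveI : IsIntegral X' := isIntegral_of_irreducibleSpace_of_isReduced X'
  haveI : IsIntegralHom g := by
    haveI : IsIntegralHom (g ≫ f) := by rw [hgf]; infer_instance
    exact MorphismProperty.of_postcomp (W' := @IsSeparated) @IsIntegralHom g f inferInstance inferInstance
  haveI : IsIntegralHom j := by
    haveI : IsIntegralHom (j ≫ pullback.fst π φ) := by
      rw [show j ≫ pullback.fst π φ = g from pullback.lift_fst _ _ _]; infer_instance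
    exact MorphismProperty.of_postcomp (W' := @IsSeparated) @IsIntegralHom j (pullback.fst π φ) inferInstance inferInstance
  have egen : g (genericPoint Y) = genericPoint X := by
    rw [← e, ← Scheme.Hom.comp_apply, hfg]
    rfl
  have efst : pullback.fst π φ (genericPoint X') = genericPoint X := by
    obtain ⟨y, hy⟩ := hjsurj (genericPoint X')
    have h1 : pullback.fst π φ (genericPoint X') ⤳ pullback.fst π φ (j (genericPoint Y)) :=
      (genericPoint_specializes (j (genericPoint Y))).map (pullback.fst π φ).continuous
    rw [← Scheme.Hom.comp_apply (j : Y ⟶ X') (pullback.fst π φ), pullback.lift_fst, egen] at h1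
    exact h1.antisymm (genericPoint_specializes _) |>.eq
  have ej : j (genericPoint Y) = genericPoint X' := hfst (by
    rw [efst, ← Scheme.Hom.comp_apply, pullback.lift_fst, egen])
  -- surjectivity on function fields
  let F : IntermediateField k X.functionField := ((ffMap f e).comp (ffMap j ej)).fieldRange.toIntermediateField fun c => by
    refine ⟨X'.presheaf.germ ⊤ (genericPoint X') trivial (Coh.toGlobal π' c), ?_⟩
    rw [RingHom.comp_apply, ffMap_germ, ffMap_germ]
    show X.presheaf.germ ⊤ (genericPoint X) trivial (f.app ⊤ (j.app ⊤ (π'.appTop _))) =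
      X.presheaf.germ ⊤ (genericPoint X) trivial (Coh.toGlobal π c)
    refine congrArg _ ?_
    show f.app ⊤ (j.app ⊤ (π'.appTop _)) = π.appTop _
    rw [show π = f ≫ j ≫ π' by rw [pullback.lift_snd]; exact hf.symm, Scheme.Hom.comp_appTop, Scheme.Hom.comp_appTop]
    rfl
  have hFE : F ≤ E := by
    rintro _ ⟨z, rfl⟩
    exact ⟨_, rfl⟩
  have hF : ∀ z : X.functionField, z ^ p ^ n ∈ F := fun z => by
    refine ⟨ffMap (pullback.fst π φ) efst z, ?_⟩
    rw [RingHom.comp_apply, ffMap_comp j (pullback.fst π φ) ej efst (by rw [pullback.lift_fst]; exact egen),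
      ffMap_congr (pullback.lift_fst g q hgq) _ egen,
      ffMap_comp f g e egen (by rw [hfg]; rfl), ffMap_congr hfg _ rfl]
    obtain ⟨V, hV, s, rfl⟩ := X.presheaf.exists_germ_eq (x := genericPoint X) z
    rw [ffMap_germ]
    show X.presheaf.germ V (genericPoint X) hV ((frobN p n X).app V s) = _
    rw [frobN_app]
    exact map_pow (X.presheaf.germ V (genericPoint X) hV).hom s (p ^ n)
  have hEF := le_of_pow_mem p n hΩ E F hFE hE hF
  have hsurj : Function.Surjective (ffMap j ej) := fun y => by
    obtain ⟨z, hz⟩ := hEF (show ffMap f e y ∈ E from ⟨y, rfl⟩)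
    exact ⟨z, (ffMap f e).injective hz⟩
  haveI : IsIso (X'.presheaf.stalkSpecializes (specializes_of_eq ej)) :=
    ⟨X'.presheaf.stalkSpecializes (specializes_of_eq ej.symm), by simp, by simp⟩
  haveI : IsIso (X'.presheaf.stalkSpecializes (specializes_of_eq ej) ≫ j.stalkMap (genericPoint Y)) :=
    (ConcreteCategory.isIso_iff_bijective _).2 ⟨(ffMap j ej).injective, hsurj⟩
  haveI : IsIso (j.stalkMap (genericPoint Y)) :=
    IsIso.of_isIso_comp_left (X'.presheaf.stalkSpecializes (specializes_of_eq ej)) _
  haveI : IsIso j := H7Lim.isIso_of_isIntegralHom_birational (fun x => (hnX' x).2) j ej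
  exact ⟨n, asIso j, pullback.lift_snd _ _ _⟩

end Groth.Agent.H29Frob.Twist
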